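import Cfsg.Agent.Lib.CosetEnum.Defs

/-! Generated table data. -/

set_option autoImplicit false
set_option maxRecDepth 20000

namespace Cfsg.Lib.CosetEnum.Fi22U62Pts

/-- Table data. -/
def orb2_0_0 : Tab :=
  (.node 1 (.leaf 0xf80000780000500001d400007400005000006800007400004000006700007400001000018f00006c00004000022600006c00003000022400006c00001000010200006800005000011e0000640000500000b80000640000400000b60000640000100000fe0000600000300001150000600000200000bd00005c00005000005000005c00004000004f00005c00002000013300005800005000004e00005800003000014e00005400003000014b0000500000200000ff00004c0000400000f100004c00003000018800004c00002000011400004c00000000012100004800005000010d0000480000300000fd00004400005000010f00004400004000012e0000440000000000a10000380000400000a000003800001000014700003400004000017600003400000000004000003000004000003f00003000002000014d00002c0000400001d500002c00002000007b00002800004000007a00002800002000014a00002400005000003000002400003000002f00002400001000018a00002000002000018b0000200000000001400000180000500000c40000180000400000db00001800001000021600001400005000006600001400004000006500001400002000018500001000005000002400001000003000019000000c00005000004c00000c00003000001b00000c0000200001cc00000800005000009f00000800004000009700000800002000003e00000400003000001400000400002000002d00000400000000006400000000003000002300000000001000003d00000000000)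 (.node 1 (.leaf 0xeb0001a40000100001e900019c00002000017d00018c0000200001b50001880000200000ed00017c00004000011800017800002000005c00016c00004000019f00016000001000013500015c0000200000a80001540000400000d40001480000400000ec0001400000200000f500013c0000300001ae00013000002000008e00012c0000200000a90001280000200001ba0001200000200001a400011c00002000016e0001180000200001a30001140000300001160001040000400002040001000000200000b10000fc0000200002230000f80000000001a00000f40000500000a50000f40000300000a30000f00000400000a20000f00000000001310000e80000500001fe0000e40000300001ff0000e40000000000b90000d000004000013b0000d00000200000cb0000cc00003000015c0000cc0000100000900000c80000400000820000c800002000009b0000c400005000007e0000c000004000017f0000bc0000200000e70000bc00000000007c0000b800004000006f0000b80000200001280000b40000400000e50000b00000500001030000b00000300001010000b00000100000ba0000ac0000300001410000a40000400000c80000a00000300001670000a00000200001680000a00000100000cf00009c00003000007d0000980000500000bb00009400004000017000009000005000015e0000900000300001b600008c00005000016000008c00004000010e0000880000500000e40000880000300000e30000840000400000df0000840000000001bb00007c00001) (.leaf 0x2400001f800003000003c0001dc0000500000ea0001d80000300001390001cc00002000011d0001b40000100001ed0001b00000200002560001a800003)))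

/-- Table data. -/
def orb2_0 : Tab :=
  orb2_0_0

end Cfsg.Lib.CosetEnum.Fi22U62Pts
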