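import Cfsg.Agent.Lib.CosetEnum.Defs

/-! Generated table data. -/

set_option autoImplicit false
set_option maxRecDepth 20000

namespace Cfsg.Lib.CosetEnum.Fi22U62Pts

/-- Table data. -/
def orb3_0_0 : Tab :=
  (.leaf 0x25500007400002000029400006800002000028f00006800001000000100005c00001000000b0000580000200002b100005400003000000700005000002000000200004c0000100000030000440000300000160000400000300002b400004000002000000f00003c0000300000050000380000300002b00000300000200002a000002c0000200002af00002c00001000029b00002400001000027f00001c0000200002b300001800002000028a0000180000100002b200001800000000026a0000140000100002660000140000000002ae0000100000200002ac00001000000000029f00000c00003000021d00000800003000029700000400003000001500000400002000002500000000002000002600000000001000004100000000000)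

/-- Table data. -/
def orb3_0 : Tab :=
  orb3_0_0

end Cfsg.Lib.CosetEnum.Fi22U62Pts
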