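import Cfsg.Agent.Lib.CosetEnum.Fi22U62Pts.TabP_Data0
import Cfsg.Agent.Lib.CosetEnum.Fi22U62Pts.TabV_Data0
import Cfsg.Agent.Lib.CosetEnum.Fi22U62Pts.TabIdx_Data0
import Cfsg.Agent.Lib.CosetEnum.Fi22U62Pts.Orb0_Data0
import Cfsg.Agent.Lib.CosetEnum.Fi22U62Pts.Pos0_Data0
import Cfsg.Agent.Lib.CosetEnum.Fi22U62Pts.Orb1_Data0
import Cfsg.Agent.Lib.CosetEnum.Fi22U62Pts.Pos1_Data0
import Cfsg.Agent.Lib.CosetEnum.Fi22U62Pts.Orb2_Data0
import Cfsg.Agent.Lib.CosetEnum.Fi22U62Pts.Pos2_Data0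
import Cfsg.Agent.Lib.CosetEnum.Fi22U62Pts.Orb3_Data0
import Cfsg.Agent.Lib.CosetEnum.Fi22U62Pts.Pos3_Data0
import Cfsg.Agent.Lib.CosetEnum.Fi22U62Pts.Orb4_Data0
import Cfsg.Agent.Lib.CosetEnum.Fi22U62Pts.Pos4_Data0

/-! Generated certificate. -/

set_option autoImplicit false
set_option maxRecDepth 20000

namespace Cfsg.Lib.CosetEnum.Fi22U62Pts

/-- Table. -/
def tabP : Tab :=
  tabP_0

/-- Table. -/
def tabV : Tab :=
  tabV_0

/-- Table. -/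
def tabIdx : Tab :=
  tabIdx_0

/-- Table. -/
def orb0 : Tab :=
  orb0_0

/-- Table. -/
def pos0 : Tab :=
  pos0_0

/-- Generators of a level. -/
def words0 : List (List Nat) :=
  [[1],
    [2],
    [3],
    [4],
    [5],
    [6],
    [7],
    [8],
    [8, 7, 6, 2, 3, 4, 8, 7, 6, 5, 4, 3, 2, 1, 2, 3, 4, 5, 6, 7, 8, 4, 3, 2, 6, 7, 8]]

/-- A level of the base. -/
def level0 : BaseLevel :=
  ⟨orb0, pos0, 693, words0⟩

/-- Table. -/
def orb1 : Tab :=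
  orb1_0

/-- Table. -/
def pos1 : Tab :=
  pos1_0

/-- Generators of a level. -/
def words1 : List (List Nat) :=
  [[1],
    [2],
    [3],
    [4],
    [5],
    [6],
    [8],
    [8, 7, 6, 2, 3, 4, 8, 7, 6, 5, 4, 3, 2, 1, 2, 3, 4, 5, 6, 7, 8, 4, 3, 2, 6, 7, 8]]

/-- A level of the base. -/
def level1 : BaseLevel :=
  ⟨orb1, pos1, 512, words1⟩

/-- Table. -/
def orb2 : Tab :=
  orb2_0

/-- Table. -/
def pos2 : Tab :=
  pos2_0

/-- Generators of a level. -/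
def words2 : List (List Nat) :=
  [[1],
    [2],
    [3],
    [4],
    [5],
    [8, 7, 6, 2, 3, 4, 8, 7, 6, 5, 4, 3, 2, 1, 2, 3, 4, 5, 6, 7, 8, 4, 3, 2, 6, 7, 8]]

/-- A level of the base. -/
def level2 : BaseLevel :=
  ⟨orb2, pos2, 135, words2⟩

/-- Table. -/
def orb3 : Tab :=
  orb3_0

/-- Table. -/
def pos3 : Tab :=
  pos3_0

/-- Generators of a level. -/
def words3 : List (List Nat) :=
  [[1],
    [3],
    [5],
    [8, 7, 6, 2, 3, 4, 8, 7, 6, 5, 4, 3, 2, 1, 2, 3, 4, 5, 6, 7, 8, 4, 3, 2, 6, 7, 8]]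

/-- A level of the base. -/
def level3 : BaseLevel :=
  ⟨orb3, pos3, 32, words3⟩

/-- Table. -/
def orb4 : Tab :=
  orb4_0

/-- Table. -/
def pos4 : Tab :=
  pos4_0

/-- Generators of a level. -/
def words4 : List (List Nat) :=
  [[1],
    [8, 7, 6, 2, 3, 4, 8, 7, 6, 5, 4, 3, 2, 1, 2, 3, 4, 5, 6, 7, 8, 4, 3, 2, 6, 7, 8]]

/-- A level of the base. -/
def level4 : BaseLevel :=
  ⟨orb4, pos4, 6, words4⟩

/-- The centres of the transvections. -/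
def centres : List Nat :=
  [1009, 3468, 3269, 2415, 3892, 1032, 459, 737]

/-- A word for the central involution in the other generators. -/
def centreWord : List Nat :=
  [2, 6, 3, 7, 5, 5, 8, 7, 2, 1, 2, 8, 6, 7, 2, 6, 3, 7, 5, 5, 8, 7, 2, 1, 2, 8, 6, 7, 2, 6, 3, 7, 5, 5, 8, 7, 2, 1, 2, 8, 6, 7]

end Cfsg.Lib.CosetEnum.Fi22U62Pts
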