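import Cfsg.Agent.Lib.CosetEnum.Fi22U62Pts.Data

/-! Generated certificate. -/

set_option autoImplicit false
set_option maxRecDepth 20000

namespace Cfsg.Lib.CosetEnum.Fi22U62Pts

theorem perm_ok : permOK tabP 9 693 [] 693 0 = true := by
  decide +kernel

theorem orbit0_ok : orbitOK tabP orb0 pos0 9 693 693 words0 693 0 = true := by
  decide +kernel

theorem nest0_ok : nestOK tabP 9 level0 words1 = true := by
  decide +kernel

theorem orbit1_ok : orbitOK tabP orb1 pos1 9 693 512 words1 512 0 = true := by
  decide +kernel

theorem nest1_ok : nestOK tabP 9 level1 words2 = true := by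
  decide +kernel

theorem orbit2_ok : orbitOK tabP orb2 pos2 9 693 135 words2 135 0 = true := by
  decide +kernel

theorem nest2_ok : nestOK tabP 9 level2 words3 = true := by
  decide +kernel

theorem orbit3_ok : orbitOK tabP orb3 pos3 9 693 32 words3 32 0 = true := by
  decide +kernel

theorem nest3_ok : nestOK tabP 9 level3 words4 = true := by
  decide +kernel

theorem orbit4_ok : orbitOK tabP orb4 pos4 9 693 6 words4 6 0 = true := by
  decide +kernel

theorem nest4_ok : nestOK tabP 9 level4 [] = true := by
  decide +kernel

end Cfsg.Lib.CosetEnum.Fi22U62Pts
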