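import Cfsg.Agent.Lib.CosetEnum.Fi22U62Pts.Data
import Cfsg.Agent.Lib.CosetEnum.Fi22U62.Data

/-! Generated certificate. -/

set_option autoImplicit false
set_option maxRecDepth 20000

namespace Cfsg.Lib.CosetEnum.Fi22U62Pts

/-- The relator word. -/
def kerWord : List Nat :=
  [3, 7, 4, 8, 6, 6, 7, 4, 3, 2, 1, 0, 7, 4, 3, 2, 1, 0, 7, 4, 3, 2, 1, 0, 7, 4, 3, 2, 1, 0, 7, 4, 3, 2, 1, 0, 8, 3, 2, 3, 7, 4, 3, 2, 1, 0, 7, 4, 3, 2, 1, 0, 7, 4, 3, 2, 1, 0, 7, 4, 3, 2, 1, 0, 7, 4, 3, 2, 1, 0, 7, 8, 3, 7, 4, 8, 6, 6, 7, 4, 3, 2, 1, 0, 7, 4, 3, 2, 1, 0, 7, 4, 3, 2, 1, 0, 7, 4, 3, 2, 1, 0, 7, 4, 3, 2, 1, 0, 8, 3, 2, 3, 7, 4, 3, 2, 1, 0, 7, 4, 3, 2, 1, 0, 7, 4, 3, 2, 1, 0, 7, 4, 3, 2, 1, 0, 7, 4, 3, 2, 1, 0, 7, 8, 3, 7, 4, 8, 6, 6, 7, 4, 3, 2, 1, 0, 7, 4, 3, 2, 1, 0, 7, 4, 3, 2, 1, 0, 7, 4, 3, 2, 1, 0, 7, 4, 3, 2, 1, 0, 8, 3, 2,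 3, 7, 4, 3, 2, 1, 0, 7, 4, 3, 2, 1, 0, 7, 4, 3, 2, 1, 0, 7, 4, 3, 2, 1, 0, 7, 4, 3, 2, 1, 0, 7, 8, 0]

theorem ker0 : permOK Fi22U62.tabP 9 3510 [kerWord] 600 0 = true := by
  decide +kernel

theorem ker1 : permOK Fi22U62.tabP 9 3510 [kerWord] 600 600 = true := by
  decide +kernel

theorem ker2 : permOK Fi22U62.tabP 9 3510 [kerWord] 600 1200 = true := by
  decide +kernel

theorem ker3 : permOK Fi22U62.tabP 9 3510 [kerWord] 600 1800 = true := by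
  decide +kernel

theorem ker4 : permOK Fi22U62.tabP 9 3510 [kerWord] 600 2400 = true := by
  decide +kernel

theorem ker5 : permOK Fi22U62.tabP 9 3510 [kerWord] 510 3000 = true := by
  decide +kernel

theorem kerWord_ok : permOK Fi22U62.tabP 9 3510 [kerWord] 3510 0 = true :=
  (permOK_append (a := 1800) (b := 1710) (permOK_append (a := 600) (b := 1200) ker0 (permOK_append (a := 600) (b := 600) ker1 ker2)) (permOK_append (a := 600) (b := 1110) ker3 (permOK_append (a := 600) (b := 510) ker4 ker5)))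

end Cfsg.Lib.CosetEnum.Fi22U62Pts
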